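/-
Finite `p`-groups in which subgroups of equal order are isomorphic.

Main result (namespace `Cfsg.Agent.ConjPSub`): `classify`: such a group is cyclic, elementary abelian, quaternion
of order 8, or (p odd) nonabelian of order `p^3` and exponent `p`.
-/
import Cfsg.Agent.EqLemmas
import Cfsg.Agent.Lib.PGroup.UniqueOrderP
import Cfsg.Agent.Lib.PGroup.NormalAbelian
import Cfsg.Agent.Lib.PGroup.Basic
import Cfsg.Agent.Lib.Solvable.Basic
import Cfsg.Agent.Lib.Coprime.Basic

set_option autoImplicit false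
open scoped commutatorElement

namespace Cfsg.Agent.ConjPSub

open Subgroup

variable {P : Type*} [Group P] {p : ℕ}

/-- Subgroups of equal order are isomorphic. -/
def IsoSub (P : Type*) [Group P] : Prop :=
  ∀ H K : Subgroup P, Nat.card H = Nat.card K → Nonempty (H ≃* K)

theorem comm_of_iso {H K : Subgroup P} (e : H ≃* K) (h : ∀ a ∈ K, ∀ b ∈ K, a * b = b * a) :
    ∀ a ∈ H, ∀ b ∈ H, a * b = b * a := by
  intro a ha b hb
  have h' : e (⟨a, ha⟩ * ⟨b, hb⟩) = e (⟨b, hb⟩ * ⟨a, ha⟩) := by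
    rw [map_mul, map_mul]
    exact Subtype.ext (h _ (e ⟨a, ha⟩).2 _ (e ⟨b, hb⟩).2)
  exact congrArg Subtype.val (e.injective h')

theorem zpowers_comm (g : P) : ∀ a ∈ zpowers g, ∀ b ∈ zpowers g, a * b = b * a := by
  intro a ha b hb
  obtain ⟨i, rfl⟩ := mem_zpowers_iff.1 ha
  obtain ⟨j, rfl⟩ := mem_zpowers_iff.1 hb
  exact (Commute.zpow_zpow_self g i j).eq

theorem card_sup_of_le_normalizer [Finite P] {H N : Subgroup P} (h : H ≤ normalizer (N : Set P))
    (hd : H ⊓ N = ⊥) : Nat.card (H ⊔ N : Subgroup P) = Nat.card H * Nat.card N := by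
  set M := H ⊔ N with hM
  haveI : (N.subgroupOf M).Normal := normal_subgroupOf_sup_of_le_normalizer h
  have h1 := Solvable.card_sup_of_disjoint (H.subgroupOf M) (N.subgroupOf M) (by
    change H.comap M.subtype ⊓ N.comap M.subtype = ⊥
    rw [← comap_inf, hd]
    exact bot_subgroupOf _)
  rw [← subgroupOf_sup le_sup_left le_sup_right, subgroupOf_self, card_top,
    Nat.card_congr (subgroupOfEquivOfLe (le_sup_left : H ≤ M)).toEquiv,
    Nat.card_congr (subgroupOfEquivOfLe (le_sup_right : N ≤ M)).toEquiv] at h1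
  exact h1

theorem quaternion_small {n : ℕ} (hiso : IsoSub (QuaternionGroup (2 ^ n))) :
    n ≤ 1 := by
  by_contra hn
  haveI : Fact (Nat.Prime 2) := ⟨Nat.prime_two⟩
  haveI : NeZero (2 ^ n) := ⟨by positivity⟩
  have hQ : Nat.card (QuaternionGroup (2 ^ n)) = 4 * 2 ^ n := by
    rw [Nat.card_eq_fintype_card, QuaternionGroup.card]
  have hpg : IsPGroup 2 (QuaternionGroup (2 ^ n)) := IsPGroup.of_card (n := n + 2) (by rw [hQ]; ring)
  set a : QuaternionGroup (2 ^ n) := QuaternionGroup.a 1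
  set b : QuaternionGroup (2 ^ n) := QuaternionGroup.xa 0
  have hne : b * a ^ 2 ≠ a ^ 2 * b := by
    simp only [a, b, QuaternionGroup.a_one_pow, QuaternionGroup.xa_mul_a, QuaternionGroup.a_mul_xa, ne_eq,
      QuaternionGroup.xa.injEq, Nat.cast_ofNat, zero_add, zero_sub]
    intro h
    have h4 : ((4 : ℕ) : ZMod (2 * 2 ^ n)) = 0 := by
      push_cast
      linear_combination h
    rw [ZMod.natCast_eq_zero_iff] at h4
    have h1 := Nat.le_of_dvd (by norm_num) h4
    have h2 : 2 ^ 2 ≤ 2 ^ n := Nat.pow_le_pow_right (by norm_num) (by omega)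
    omega
  have hbt : zpowers b ≠ ⊤ := fun h => hne
    (zpowers_comm b _ (h ▸ mem_top _) _ (h ▸ mem_top _))
  obtain ⟨M, hM, hbM⟩ := (eq_top_or_exists_le_coatom (zpowers b)).resolve_left hbt
  have hidx : M.index = 2 := PGroup.isCoatom_index hpg hM
  have ha : orderOf a = 2 * 2 ^ n := QuaternionGroup.orderOf_a_one
  obtain ⟨e⟩ := hiso M (zpowers a) (by
    have h1 := M.card_mul_index
    rw [hidx, hQ] at h1
    rw [Nat.card_zpowers, ha]
    omega)
  exact hne (comm_of_iso e (zpowers_comm a) _ (hbM (mem_zpowers b)) _ (by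
    rw [pow_two]; exact Subgroup.mul_self_mem_of_index_two hidx a))

variable [Finite P] [hp : Fact p.Prime]

theorem pow_prime_eq_one (hP : IsPGroup p P) (hiso : IsoSub P) {x y : P} (hx : orderOf x = p) (hy : y ^ p = 1)
    (hxy : y ∉ zpowers x) (g : P) : g ^ p = 1 := by
  haveI : Nontrivial P := ⟨⟨x, 1, fun h => by
    rw [h, orderOf_one] at hx
    exact hp.out.ne_one hx.symm⟩⟩
  obtain ⟨z, -, hzc, hz⟩ := PGroup.exists_central_order_p hP (N := (⊤ : Subgroup P)) top_ne_bot
  obtain ⟨w, hw, hwz⟩ : ∃ w, orderOf w = p ∧ w ∉ zpowers z := by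
    by_cases hxz : x ∈ zpowers z
    · refine ⟨y, ?_, fun hyz => hxy ?_⟩
      · exact orderOf_eq_prime hy fun h => hxy (h ▸ one_mem _)
      · have : zpowers x = zpowers z := eq_of_le_of_card_ge (zpowers_le.2 hxz)
          (by rw [Nat.card_zpowers, Nat.card_zpowers, hx, hz])
        rwa [this]
    · exact ⟨x, hx, hxz⟩
  have hzw : Commute z w := (Subgroup.mem_center_iff.1 hzc w).symm
  haveI : (zpowers z).Normal := ⟨fun a ha g => by
    obtain ⟨i, rfl⟩ := mem_zpowers_iff.1 ha
    rw [Subgroup.mem_center_iff.1 ((center P).zpow_mem hzc i) g, mul_inv_cancel_right]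
    exact zpow_mem (mem_zpowers z) i⟩
  have hdisj : zpowers w ⊓ zpowers z = ⊥ := by
    refine (Subgroup.eq_bot_iff_forall _).2 fun a ⟨haw, haz⟩ => ?_
    by_contra ha1
    have h1 : zpowers a = zpowers w := eq_of_le_of_card_ge (zpowers_le.2 haw) (by
      have h2 : orderOf a ∣ p := hw ▸ orderOf_dvd_of_mem_zpowers haw
      rcases (Nat.dvd_prime hp.out).1 h2 with h | h
      · exact absurd (orderOf_eq_one_iff.1 h) ha1
      · rw [Nat.card_zpowers, Nat.card_zpowers, hw, h])
    exact hwz ((zpowers_le.2 haz : zpowers a ≤ zpowers z) (h1 ▸ mem_zpowers w))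
  set E := zpowers w ⊔ zpowers z
  have hEc : Nat.card E = p ^ 2 := by
    rw [Solvable.card_sup_of_disjoint _ _ hdisj, Nat.card_zpowers, Nat.card_zpowers, hw, hz, pow_two]
  have hE : ∀ e ∈ E, e ^ p = 1 := by
    intro e he
    obtain ⟨a, ha, b, hb, rfl⟩ := mem_sup_of_normal_right.1 he
    obtain ⟨i, rfl⟩ := mem_zpowers_iff.1 ha
    obtain ⟨j, rfl⟩ := mem_zpowers_iff.1 hb
    rw [(hzw.symm.zpow_zpow i j).mul_pow, ← zpow_natCast, ← zpow_natCast, zpow_comm, zpow_comm z,
      zpow_natCast, zpow_natCast, ← hw, pow_orderOf_eq_one, hw, ← hz, pow_orderOf_eq_one, one_zpow, one_zpow, one_mul]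
  obtain ⟨k, hk⟩ := IsPGroup.iff_orderOf.1 hP g
  by_contra hg
  have hk2 : 2 ≤ k := by
    by_contra hk2
    exact hg (orderOf_dvd_iff_pow_eq_one.1 (hk ▸ (show p ^ k ∣ p from by
      rcases (show k = 0 ∨ k = 1 by omega) with rfl | rfl <;> simp)))
  set u := g ^ (p ^ (k - 2))
  have hu : orderOf u = p ^ 2 := by
    rw [orderOf_pow' g (pow_ne_zero _ hp.out.ne_zero), hk, Nat.gcd_eq_right (pow_dvd_pow p (Nat.sub_le k 2)),
      Nat.pow_div (Nat.sub_le k 2) hp.out.pos, show k - (k - 2) = 2 by omega]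
  obtain ⟨e⟩ := hiso (zpowers u) E (by rw [Nat.card_zpowers, hu, hEc])
  have h1 : (⟨u, mem_zpowers u⟩ : zpowers u) ^ p = 1 := e.injective (by
    rw [map_pow, map_one]
    exact Subtype.ext (hE _ (e _).2))
  have h2 := Nat.le_of_dvd hp.out.pos (hu ▸ orderOf_dvd_of_pow_eq_one
    (show u ^ p = 1 by simpa using congrArg Subtype.val h1))
  have := hp.out.two_le
  nlinarith

theorem card_eq_cube (hP : IsPGroup p P) (hiso : IsoSub P) (hexp : ∀ g : P, g ^ p = 1)
    (hnc : ¬ ∀ a b : P, a * b = b * a) : Nat.card P = p ^ 3 := by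
  obtain ⟨n, hn⟩ := hP.exists_card_eq
  have h3 : 3 ≤ n := by
    by_contra h
    refine hnc ?_
    have hcases : n = 0 ∨ n = 1 ∨ n = 2 := by omega
    rcases hcases with rfl | rfl | rfl
    · haveI : Subsingleton P := (Nat.card_eq_one_iff_unique.1 (by simpa using hn)).1
      exact fun a b => Subsingleton.elim _ _
    · haveI := isCyclic_of_prime_card (α := P) (by simpa using hn)
      exact fun a b => (IsCyclic.isMulCommutative (α := P)).is_comm.comm a b
    · exact fun a b => (IsPGroup.isMulCommutative_of_card_eq_prime_sq hn).is_comm.comm a b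
  by_contra hne
  have h4 : 4 ≤ n := by
    rcases eq_or_lt_of_le h3 with h | h
    · exact absurd (h ▸ hn) hne
    · omega
  -- an abelian subgroup of order `p^3`
  obtain ⟨A, -, hAmax⟩ := Finite.exists_le_maximal (α := Subgroup P)
    (p := fun A => A.Normal ∧ ∀ x ∈ A, ∀ y ∈ A, x * y = y * x) (a := ⊥)
    ⟨inferInstance, fun x hx y hy => by rw [mem_bot.mp hx, mem_bot.mp hy]⟩
  obtain ⟨hAn, hAc⟩ := hAmax.prop
  haveI := hAn
  have hCA : centralizer (A : Set P) = A := PGroup.centralizer_eq_of_maximal_normal_abelian hP hAc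
    fun B hB hBc hAB => le_antisymm (hAmax.2 ⟨hB, hBc⟩ hAB) hAB
  obtain ⟨a, ha⟩ := (hP.to_subgroup A).exists_card_eq
  have hbound := PGroup.index_centralizer_le hP a A hAn ha
  rw [hCA] at hbound
  have hle : n ≤ a + a * (a - 1) / 2 := by
    refine (Nat.pow_le_pow_iff_right hp.out.one_lt).1 ?_
    rw [← hn, ← A.card_mul_index, pow_add, ha]
    exact Nat.mul_le_mul_left _ hbound
  have ha3 : 3 ≤ a := by
    by_contra h
    have hcases : a = 0 ∨ a = 1 ∨ a = 2 := by omega
    rcases hcases with rfl | rfl | rfl <;> omega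
  obtain ⟨A', -, hA'A, hA'⟩ := PGroup.exists_normal_le_card hP ha 3 ha3
  -- a nonabelian subgroup of order `p^3`
  have hZ : center P ≠ ⊤ := fun h => hnc fun a b => mem_center_iff.1 (h ▸ mem_top b) a
  obtain ⟨K, -, hZK, -, hKc, hKT⟩ := PGroup.exists_normal_between hP (M := center P) (N := ⊤) (lt_top_iff_ne_top.2 hZ)
  have hKne : ¬ K ≤ center P := fun h => by
    have h1 := Nat.le_of_dvd Nat.card_pos (card_dvd_of_le h)
    rw [hKc] at h1
    have := hp.out.two_le
    have h2 : 0 < Nat.card (center P) := Nat.card_pos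
    nlinarith
  obtain ⟨v, hvK, hvZ⟩ := SetLike.not_le_iff_exists.1 hKne
  obtain ⟨x, hxv⟩ : ∃ x, x * v ≠ v * x := by
    by_contra hh
    push Not at hh
    exact hvZ (mem_center_iff.2 hh)
  set c := v * x * v⁻¹ * x⁻¹ with hc
  have hcZ : c ∈ center P := hKT (commutator_mem_commutator hvK (mem_top x))
  have hc1 : c ≠ 1 := fun h => hxv (by
    calc x * v = c * (x * v) := by rw [h, one_mul]
      _ = v * x := by rw [hc]; group)
  have hord : ∀ g : P, g ≠ 1 → orderOf g = p := fun g hg => orderOf_eq_prime (hexp g) hg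
  have hv1 : v ≠ 1 := fun h => hvZ (h ▸ one_mem _)
  have hdisj : zpowers v ⊓ zpowers c = ⊥ := by
    refine (Subgroup.eq_bot_iff_forall _).2 fun b ⟨hbv, hbc⟩ => ?_
    by_contra hb1
    have h1 : zpowers b = zpowers v := eq_of_le_of_card_ge (zpowers_le.2 hbv)
      (by rw [Nat.card_zpowers, Nat.card_zpowers, hord b hb1, hord v hv1])
    exact hvZ ((zpowers_le.2 ((zpowers_le.2 hcZ : zpowers c ≤ center P) hbc) : zpowers b ≤ center P)
      (h1 ▸ mem_zpowers v))
  set B := zpowers v ⊔ zpowers c with hB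
  have hBc : Nat.card B = p ^ 2 := by
    rw [hB, card_sup_of_le_normalizer (zpowers_le.2 (centralizer_le_normalizer _
      (mem_centralizer_iff.2 fun b hb => ?_))) hdisj, Nat.card_zpowers, Nat.card_zpowers, hord v hv1, hord c hc1, pow_two]
    exact (mem_center_iff.1 ((zpowers_le.2 hcZ) hb) v).symm
  have hxB : x ∉ B := fun hxB => hxv
    ((IsPGroup.isMulCommutative_of_card_eq_prime_sq hBc).is_comm.comm ⟨x, hxB⟩
      ⟨v, mem_sup_left (mem_zpowers v)⟩ |> congrArg Subtype.val)
  have hxN : x ∈ normalizer (B : Set P) := by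
    refine Coprime.mem_normalizer_of_forall fun b hb => ?_
    have h1 : ∀ d ∈ B, (MulAut.conj x).toMonoidHom d ∈ B := by
      have : B ≤ B.comap (MulAut.conj x).toMonoidHom := by
        refine sup_le (zpowers_le.2 ?_) (zpowers_le.2 ?_)
        · change x * v * x⁻¹ ∈ B
          rw [show x * v * x⁻¹ = c⁻¹ * v by rw [hc]; group]
          exact B.mul_mem (mem_sup_right (inv_mem (mem_zpowers c))) (mem_sup_left (mem_zpowers v))
        · change x * c * x⁻¹ ∈ B
          rw [mem_center_iff.1 hcZ x, mul_inv_cancel_right]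
          exact mem_sup_right (mem_zpowers c)
      exact this
    exact h1 b hb
  have hx1 : x ≠ 1 := fun h => hxB (h ▸ one_mem _)
  have hdisj' : zpowers x ⊓ B = ⊥ := by
    refine (Subgroup.eq_bot_iff_forall _).2 fun b ⟨hbx, hbB⟩ => ?_
    by_contra hb1
    have h1 : zpowers b = zpowers x := eq_of_le_of_card_ge (zpowers_le.2 hbx)
      (by rw [Nat.card_zpowers, Nat.card_zpowers, hord b hb1, hord x hx1])
    exact hxB ((zpowers_le.2 hbB : zpowers b ≤ B) (h1 ▸ mem_zpowers x))
  set S := zpowers x ⊔ B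
  have hS : Nat.card S = p ^ 3 := by
    rw [card_sup_of_le_normalizer (zpowers_le.2 hxN) hdisj', Nat.card_zpowers, hord x hx1, hBc, ← pow_succ']
  obtain ⟨e⟩ := hiso S A' (by rw [hS, hA'])
  exact hxv (comm_of_iso e (fun a ha b hb => hAc a (hA'A ha) b (hA'A hb)) x (mem_sup_left (mem_zpowers x)) v
    (mem_sup_right (mem_sup_left (mem_zpowers v))))

theorem isoSub_of_equiv {Q : Type*} [Group Q] (e : P ≃* Q) (h : IsoSub P) : IsoSub Q := by
  intro H K hHK
  have hc : ∀ L : Subgroup Q, Nonempty ((L.map e.symm.toMonoidHom) ≃* L) :=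
    fun L => ⟨(L.equivMapOfInjective _ e.symm.injective).symm⟩
  obtain ⟨e1⟩ := hc H
  obtain ⟨e2⟩ := hc K
  obtain ⟨e3⟩ := h (H.map e.symm.toMonoidHom) (K.map e.symm.toMonoidHom)
    (by rw [Nat.card_congr e1.toEquiv, Nat.card_congr e2.toEquiv, hHK])
  exact ⟨(e1.symm.trans e3).trans e2⟩

theorem classify (hP : IsPGroup p P) (hiso : IsoSub P) :
    IsCyclic P ∨ ((∀ a b : P, a * b = b * a) ∧ ∀ g : P, g ^ p = 1) ∨
      (p = 2 ∧ Nonempty (P ≃* QuaternionGroup 2)) ∨
      (p ≠ 2 ∧ (¬ ∀ a b : P, a * b = b * a) ∧ Nat.card P = p ^ 3 ∧ Monoid.exponent P = p) := by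
  by_cases hu : ∀ x y : P, orderOf x = p → y ^ p = 1 → y ∈ zpowers x
  · rcases PGroup.unique_order_p_cases hP hu with h | ⟨h2, n, ⟨e⟩⟩
    · exact Or.inl h
    · have hn := quaternion_small (isoSub_of_equiv e hiso)
      rcases (show n = 0 ∨ n = 1 by omega) with rfl | rfl
      · haveI : IsCyclic (QuaternionGroup (2 ^ 0)) := QuaternionGroup.quaternionGroup_one_isCyclic
        exact Or.inl (isCyclic_of_surjective e.symm.toMonoidHom e.symm.surjective)
      · exact Or.inr (Or.inr (Or.inl ⟨h2, ⟨e⟩⟩))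
  · push Not at hu
    obtain ⟨x, y, hx, hy, hxy⟩ := hu
    have hexp := pow_prime_eq_one hP hiso hx hy hxy
    by_cases hc : ∀ a b : P, a * b = b * a
    · exact Or.inr (Or.inl ⟨hc, hexp⟩)
    · refine Or.inr (Or.inr (Or.inr ⟨?_, hc, card_eq_cube hP hiso hexp hc, ?_⟩))
      · rintro rfl
        refine hc fun a b => ?_
        have hi : ∀ g : P, g⁻¹ = g := fun g => inv_eq_of_mul_eq_one_right (by rw [← pow_two, hexp])
        rw [← hi (a * b), mul_inv_rev, hi, hi]
      · have hdvd : Monoid.exponent P ∣ p := Monoid.exponent_dvd_of_forall_pow_eq_one hexp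
        rcases (Nat.dvd_prime hp.out).1 hdvd with h | h
        · exact absurd (h ▸ Monoid.pow_exponent_eq_one x : x ^ 1 = 1) (fun h1 => by
            rw [pow_one] at h1; rw [h1, orderOf_one] at hx; exact hp.out.ne_one hx.symm)
        · exact h

end Cfsg.Agent.ConjPSub
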