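/-
Groups with all `p`-subgroups of the same order conjugate: normal `p`-solvable subgroups.

Main results (namespace `Cfsg.Agent.ConjPSub`): `isoSub_sylow`, `abelian_of_normal`
-/
import Cfsg.Agent.Lib.ConjPSubgroups.Classify
import Cfsg.Agent.Lib.Cores.Basic
import Cfsg.Agent.Lib.HallHigman.PSolvable

set_option autoImplicit false

namespace Cfsg.Agent.ConjPSub

open Subgroup

variable {G : Type*} [Group G] {p : ℕ}

/-- Any two `p`-subgroups of the same order are conjugate. -/
def Conj (p : ℕ) (G : Type*) [Group G] : Prop :=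
  ∀ H K : Subgroup G, IsPGroup p H → IsPGroup p K → Nat.card H = Nat.card K →
      ∃ g : G, K = H.map (MulAut.conj g).toMonoidHom

theorem isoSub_sylow (hC : Conj p G) (P : Sylow p G) : IsoSub (P : Subgroup G) := by
  intro H K hHK
  have hi : Function.Injective (P : Subgroup G).subtype := Subtype.val_injective
  obtain ⟨g, hg⟩ := hC (H.map (P : Subgroup G).subtype) (K.map (P : Subgroup G).subtype)
    ((P.2.to_subgroup H).map _) ((P.2.to_subgroup K).map _)
    (by rw [card_map_of_injective hi, card_map_of_injective hi, hHK])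
  exact ⟨((H.equivMapOfInjective _ hi).trans (((H.map (P : Subgroup G).subtype).equivMapOfInjective _
    (MulAut.conj g).injective).trans (MulEquiv.subgroupCongr hg.symm))).trans (K.equivMapOfInjective _ hi).symm⟩

theorem pPrimePCore_char (p : ℕ) (X : Type*) [Group X] : (Cfsg.pPrimePCore p X).Characteristic := by
  refine characteristic_iff_comap_eq.2 fun e => ?_
  set e' := QuotientGroup.congr (Cfsg.pPrimeCore p X) (Cfsg.pPrimeCore p X) e
    (characteristic_iff_map_eq.1 inferInstance e)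
  ext x
  show QuotientGroup.mk' (Cfsg.pPrimeCore p X) (e x) ∈ Cfsg.pCore p _ ↔
    QuotientGroup.mk' (Cfsg.pPrimeCore p X) x ∈ Cfsg.pCore p _
  conv_rhs => rw [← characteristic_iff_comap_eq.1 (Cores.pCore_characteristic p _) e']
  rfl

variable [Finite G] [hp : Fact p.Prime]

/-- Every element of order `p` lies in a normal subgroup of order divisible by `p`. -/
theorem mem_of_order (hC : Conj p G) {H : Subgroup G} [H.Normal] (hd : p ∣ Nat.card H) {z : G}
    (hz : orderOf z = p) : z ∈ H := by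
  obtain ⟨y, hy⟩ := exists_prime_orderOf_dvd_card' (G := H) p hd
  rw [← Subgroup.orderOf_coe] at hy
  have hpg : ∀ a : G, orderOf a = p → IsPGroup p (zpowers a) := fun a ha =>
    IsPGroup.of_card (n := 1) (by rw [Nat.card_zpowers, ha, pow_one])
  obtain ⟨g, hg⟩ := hC (zpowers (y : G)) (zpowers z) (hpg _ hy) (hpg _ hz)
    (by rw [Nat.card_zpowers, Nat.card_zpowers, hy, hz])
  have h1 : (zpowers (y : G)).map (MulAut.conj g).toMonoidHom ≤ H := by
    rintro _ ⟨a, ha, rfl⟩
    exact Normal.conj_mem inferInstance a (zpowers_le.2 y.2 ha) g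
  exact h1 (hg.le (mem_zpowers z))

theorem abelian_of_normal (hp2 : p ≠ 2) (hC : Conj p G) (P : Sylow p G) (H : Subgroup G) [H.Normal]
    (hsolv : Cfsg.IsPSolvable p H) (hdiv : p ∣ Nat.card H) :
    IsMulCommutative (P : Subgroup G) ∧ ((P : Subgroup G) ≤ H ∨ IsCyclic (P : Subgroup G)) := by
  have hexpH : (∀ g : (P : Subgroup G), g ^ p = 1) → (P : Subgroup G) ≤ H := fun hexp a ha => by
    by_cases ha1 : a = 1
    · exact ha1 ▸ one_mem _
    · exact mem_of_order hC hdiv (orderOf_eq_prime (by simpa using congrArg Subtype.val (hexp ⟨a, ha⟩)) ha1)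
  rcases classify P.2 (isoSub_sylow hC P) with hcyc | ⟨hab, hexp⟩ | ⟨h2, -⟩ | ⟨-, hnc, -, hexp⟩
  · haveI := hcyc
    exact ⟨IsCyclic.isMulCommutative, Or.inr hcyc⟩
  · exact ⟨⟨⟨hab⟩⟩, Or.inl (hexpH hexp)⟩
  · exact absurd h2 hp2
  exfalso
  have hexp' : ∀ g : (P : Subgroup G), g ^ p = 1 := fun g => by
    have h := Monoid.pow_exponent_eq_one g
    rwa [hexp] at h
  -- a normal subgroup of order divisible by `p` with `p'`-by-`p` structure
  haveI := pPrimePCore_char p H
  set K := (Cfsg.pPrimeCore p H).map H.subtype with hK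
  set L := (Cfsg.pPrimePCore p H).map H.subtype with hL
  haveI hKn : K.Normal := ConjAct.normal_of_characteristic_of_normal
  haveI hLn : L.Normal := ConjAct.normal_of_characteristic_of_normal
  have hKp : ¬ p ∣ Nat.card K := by
    rw [hK, card_map_of_injective H.subtype_injective]
    exact Cores.not_dvd_card_pPrimeCore
  set Q := H ⧸ Cfsg.pPrimeCore p H
  have hcard : Nat.card (Cfsg.pPrimePCore p H) = Nat.card (Cfsg.pPrimeCore p H) * Nat.card (Cfsg.pCore p Q) := by
    have h1 := Solvable.card_eq_card_map_mul (QuotientGroup.mk' (Cfsg.pPrimeCore p H)) (Cfsg.pPrimePCore p H)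
    rw [HallHigman.map_pPrimePCore, QuotientGroup.ker_mk', inf_eq_right.2 HallHigman.pPrimeCore_le_pPrimePCore] at h1
    rw [h1, mul_comm]
  obtain ⟨j, hj⟩ := (Cores.isPGroup_pCore p Q).exists_card_eq
  have hj0 : j ≠ 0 := by
    rintro rfl
    have hO : Cfsg.pCore p Q = ⊥ := eq_bot_of_card_eq _ (by rw [hj, pow_zero])
    have hc := HallHigman.centralizer_pCore_quotient_le (Solvable.isPiSeparable_of_isPSolvable hsolv)
    have ht : (⊤ : Subgroup Q) ≤ ⊥ := by
      refine le_trans ?_ (hc.trans hO.le)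
      intro a _
      rw [hO]
      exact mem_centralizer_iff.2 fun b hb => by rw [mem_bot.1 hb, one_mul, mul_one]
    have h1 := (Cfsg.pPrimeCore p H).card_eq_card_quotient_mul_card_subgroup
    rw [← card_top (G := Q), le_bot_iff.1 ht, card_bot, one_mul] at h1
    exact Cores.not_dvd_card_pPrimeCore (p := p) (G := H) (h1 ▸ hdiv)
  have hLp : p ∣ Nat.card L := by
    rw [hL, card_map_of_injective H.subtype_injective, hcard, hj]
    exact dvd_mul_of_dvd_right (dvd_pow_self p hj0) _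
  have hKL : K ≤ L := map_mono HallHigman.pPrimeCore_le_pPrimePCore
  have hPL : (P : Subgroup G) ≤ L := fun a ha => by
    by_cases ha1 : a = 1
    · exact ha1 ▸ one_mem _
    · exact mem_of_order hC hLp (orderOf_eq_prime (by simpa using congrArg Subtype.val (hexp' ⟨a, ha⟩)) ha1)
  have hKLcop : (Nat.card (P : Subgroup G)).Coprime (Nat.card K) := by
    obtain ⟨i, hi⟩ := P.2.exists_card_eq
    rw [hi]
    exact (hp.out.coprime_iff_not_dvd.2 hKp).pow_left i
  have hsup : (P : Subgroup G) ⊔ K = L := by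
    refine eq_of_le_of_card_ge (sup_le hPL hKL) ?_
    rw [Solvable.card_sup_of_disjoint _ _ (Solvable.inf_eq_bot_of_coprime hKLcop), hL, hK,
      card_map_of_injective H.subtype_injective, card_map_of_injective H.subtype_injective, hcard, hj,
      mul_comm]
    refine Nat.mul_le_mul_right _ (Nat.le_of_dvd Nat.card_pos (P.pow_dvd_card_of_pow_dvd_card ?_))
    exact (hj ▸ (dvd_mul_left _ _).trans hcard.symm.dvd).trans (card_subgroup_dvd_card _ |>.trans
      (card_subgroup_dvd_card H))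
  -- Frattini: `G = L N(P)`
  have hfr : normalizer ((P : Subgroup G) : Set G) ⊔ L = ⊤ := by
    have h1 := Sylow.normalizer_sup_eq_top (P.subtype hPL)
    rwa [Sylow.coe_subtype, subgroupOf_map_subtype, inf_eq_left.2 hPL] at h1
  have hfr' : normalizer ((P : Subgroup G) : Set G) ⊔ K = ⊤ := by
    rw [eq_top_iff, ← hfr]
    exact sup_le le_sup_left (hsup ▸ sup_le (le_normalizer.trans le_sup_left) le_sup_right)
  obtain ⟨z, -, hzc, hz⟩ := PGroup.exists_central_order_p P.2 (N := (⊤ : Subgroup (P : Subgroup G))) (by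
    intro h
    refine hnc fun a b => ?_
    rw [mem_bot.1 (h.le (mem_top a)), mem_bot.1 (h.le (mem_top b))])
  obtain ⟨a, b, hab⟩ : ∃ a b : (P : Subgroup G), a * b ≠ b * a := by
    by_contra hh; push Not at hh; exact hnc hh
  have ha1 : (a : G) ≠ 1 := fun h => hab (by rw [show a = 1 from Subtype.ext h, one_mul, mul_one])
  have hao : orderOf (a : G) = p := orderOf_eq_prime (by simpa using congrArg Subtype.val (hexp' a)) ha1
  have hzo : orderOf (z : G) = p := by rw [Subgroup.orderOf_coe, hz]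
  obtain ⟨g, hg⟩ := hC (zpowers (z : G)) (zpowers (a : G))
    (IsPGroup.of_card (n := 1) (by rw [Nat.card_zpowers, hzo, pow_one]))
    (IsPGroup.of_card (n := 1) (by rw [Nat.card_zpowers, hao, pow_one]))
    (by rw [Nat.card_zpowers, Nat.card_zpowers, hzo, hao])
  obtain ⟨n, hn, k, hk, rfl⟩ := mem_sup_of_normal_right.1 (hfr'.symm ▸ mem_top g)
  obtain ⟨w, hw, hwa⟩ : (a : G) ∈ (zpowers (z : G)).map (MulAut.conj (n * k)).toMonoidHom := hg ▸ mem_zpowers _
  obtain ⟨i, rfl⟩ := mem_zpowers_iff.1 hw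
  change n * k * (z : G) ^ i * (n * k)⁻¹ = a at hwa
  have hwP : (z : G) ^ i ∈ (P : Subgroup G) := zpow_mem z.2 i
  have hm : n⁻¹ * (a : G) * n⁻¹⁻¹ ∈ (P : Subgroup G) := (mem_normalizer_iff.1 (inv_mem hn) _).1 a.2
  have hkey : n⁻¹ * (a : G) * n⁻¹⁻¹ * ((z : G) ^ i)⁻¹ = 1 := by
    refine mem_bot.1 ((Solvable.inf_eq_bot_of_coprime hKLcop) ▸ ⟨(P : Subgroup G).mul_mem hm (inv_mem hwP), ?_⟩)
    rw [← hwa, show n⁻¹ * (n * k * (z : G) ^ i * (n * k)⁻¹) * n⁻¹⁻¹ * ((z : G) ^ i)⁻¹ =
      k * ((z : G) ^ i * k⁻¹ * ((z : G) ^ i)⁻¹) by group]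
    exact K.mul_mem hk (hKn.conj_mem _ (inv_mem hk) _)
  rw [mul_inv_eq_one] at hkey
  refine hab (Subtype.ext ?_)
  have hnb : n⁻¹ * (b : G) * n⁻¹⁻¹ ∈ (P : Subgroup G) := (mem_normalizer_iff.1 (inv_mem hn) _).1 b.2
  have hcom : ∀ c ∈ (P : Subgroup G), Commute c ((z : G) ^ i) := fun c hc =>
    (show Commute c (z : G) from congrArg Subtype.val (mem_center_iff.1 hzc ⟨c, hc⟩)).zpow_right i
  have h2 := (hcom _ hnb).eq
  rw [← hkey] at h2
  calc (a : G) * b = n * (n⁻¹ * (a : G) * n⁻¹⁻¹ * (n⁻¹ * (b : G) * n⁻¹⁻¹)) * n⁻¹ := by group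
    _ = n * (n⁻¹ * (b : G) * n⁻¹⁻¹ * (n⁻¹ * (a : G) * n⁻¹⁻¹)) * n⁻¹ := by rw [h2]
    _ = (b : G) * a := by group

end Cfsg.Agent.ConjPSub
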