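/-
A group with an elementary abelian self-centralizing normal Sylow `p`-subgroup `P`, solvable, and transitive on
the subgroups of each order of `P`, is semiaffine (for `|P| ≥ p^3`).

Main result (namespace `Cfsg.Agent.ConjPSub`): `semiaffine_of_transitive`
-/
import Cfsg.Agent.Lib.PlaneTransitive.Main
import Cfsg.Agent.Lib.Cores.Basic
import Mathlib.GroupTheory.SchurZassenhaus
import Cfsg.Prelude.Def_Perm

set_option autoImplicit false

namespace Cfsg.Agent.ConjPSub

open Module

universe u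

section Card

variable {p n : ℕ} [hp : Fact p.Prime]

theorem card_ringAut (hn : n ≠ 0) : Nat.card (GaloisField p n ≃+* GaloisField p n) = n := by
  classical
  haveI : Finite (GaloisField p n) := Nat.finite_of_card_ne_zero
    (by rw [GaloisField.card p n hn]; exact pow_ne_zero _ hp.out.ne_zero)
  haveI : Module.Finite (ZMod p) (GaloisField p n) := Module.Finite.of_finite
  have h : finrank (ZMod p) (GaloisField p n) = n := GaloisField.finrank p hn
  conv_rhs => rw [← h, ← IsGalois.card_aut_eq_finrank (ZMod p) (GaloisField p n)]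
  exact Nat.card_congr
    { toFun := fun f => AlgEquiv.ofRingEquiv (f := f) fun c => RingHom.congr_fun
        (Subsingleton.elim ((f : GaloisField p n →+* GaloisField p n).comp (algebraMap (ZMod p) _))
          (algebraMap (ZMod p) _)) c
      invFun := fun f => f.toRingEquiv
      left_inv := fun f => RingEquiv.ext fun _ => rfl
      right_inv := fun f => AlgEquiv.ext fun _ => rfl }

theorem card_semiaffine_le (hn : n ≠ 0) :
    Nat.card (Cfsg.semiaffineGroup (GaloisField p n)) ≤ (p ^ n - 1) * p ^ n * n ∧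
    Nat.card (Cfsg.affineGroup (GaloisField p n)) ≤ (p ^ n - 1) * p ^ n := by
  classical
  haveI : Finite (GaloisField p n) := Nat.finite_of_card_ne_zero
    (by rw [GaloisField.card p n hn]; exact pow_ne_zero _ hp.out.ne_zero)
  haveI : Finite (GaloisField p n ≃+* GaloisField p n) := Finite.of_injective _ DFunLike.coe_injective
  constructor
  · have h : Function.Surjective (fun x : ((GaloisField p n)ˣ × GaloisField p n) × (GaloisField p n ≃+* GaloisField p n) =>
        (⟨(x.2.toEquiv.trans (Units.mulLeft x.1.1)).trans (Equiv.addRight x.1.2),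
          x.1.1, x.1.2, x.2, fun _ => rfl⟩ : Cfsg.semiaffineGroup (GaloisField p n))) := by
      rintro ⟨σ, a, b, φ, hσ⟩
      exact ⟨((a, b), φ), Subtype.ext (Equiv.ext fun x => (hσ x).symm)⟩
    refine (Nat.card_le_card_of_surjective _ h).trans (le_of_eq ?_)
    rw [Nat.card_prod, Nat.card_prod, Nat.card_units, GaloisField.card p n hn, card_ringAut hn]
  · have h : Function.Surjective (fun x : (GaloisField p n)ˣ × GaloisField p n =>
        (⟨(Units.mulLeft x.1).trans (Equiv.addRight x.2), x.1, x.2, fun _ => rfl⟩ :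
          Cfsg.affineGroup (GaloisField p n))) := by
      rintro ⟨σ, a, b, hσ⟩
      exact ⟨(a, b), Subtype.ext (Equiv.ext fun x => (hσ x).symm)⟩
    refine (Nat.card_le_card_of_surjective _ h).trans (le_of_eq ?_)
    rw [Nat.card_prod, Nat.card_units, GaloisField.card p n hn]

end Card

variable {Nb : Type u} [Group Nb] [Finite Nb] {p : ℕ} [hp : Fact p.Prime]

theorem semiaffine_of_transitive [Group.IsSolvable Nb] (P : Subgroup Nb) [hPn : P.Normal] {n : ℕ} (hn : 3 ≤ n)
    (hPc : Nat.card P = p ^ n) (hcomm : ∀ a ∈ P, ∀ b ∈ P, a * b = b * a) (hexp : ∀ a ∈ P, a ^ p = 1)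
    (hidx : (Nat.card P).Coprime P.index) (hcore : Cfsg.pPrimeCore p Nb = ⊥)
    (htrans : ∀ H K : Subgroup Nb, H ≤ P → K ≤ P → Nat.card H = Nat.card K →
      ∃ g : Nb, ∀ y, y ∈ K ↔ g⁻¹ * y * g ∈ H) :
    (n = 3 ∧ (∃ f : Nb →* ↥(Cfsg.semiaffineGroup (GaloisField p 3)), Function.Injective f) ∧
      (p = 2 → Nonempty (Nb ≃* Cfsg.semiaffineGroup (GaloisField 2 3)) ∨
               Nonempty (Nb ≃* Cfsg.affineGroup (GaloisField 2 3)))) ∨
    (n = 5 ∧ p = 2 ∧ Nonempty (Nb ≃* Cfsg.semiaffineGroup (GaloisField 2 5))) := by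
  classical
  obtain ⟨H, hH⟩ := Subgroup.exists_right_complement'_of_coprime hidx
  have hsup : P ⊔ H = ⊤ := hH.sup_eq_top
  have hdec : ∀ g : Nb, ∃ a ∈ P, ∃ h ∈ H, a * h = g := fun g =>
    Subgroup.mem_sup_of_normal_left.1 (hsup ▸ Subgroup.mem_top g)
  have hPH : ∀ y ∈ P, y ∈ H → y = 1 := fun y h1 h2 => Subgroup.disjoint_def.1 hH.disjoint h1 h2
  have hHc : Nat.card H = P.index := hH.symm.index_eq_card.symm
  letI : CommGroup P := { (inferInstance : Group P) with mul_comm := fun a b => Subtype.ext (hcomm a a.2 b b.2) }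
  let V := Additive P
  have hsmul : ∀ x : V, p • x = 0 := fun x => Additive.toMul.injective (Subtype.ext (by
    rw [toMul_nsmul, SubgroupClass.coe_pow, toMul_zero, Subgroup.coe_one]; exact hexp _ x.toMul.2))
  haveI : Module (ZMod p) V := AddCommGroup.zmodModule hsmul
  have hVc : Nat.card V = p ^ n := by rw [← hPc]; exact Nat.card_congr Additive.toMul
  haveI : Module.Finite (ZMod p) V := Module.Finite.of_finite
  have hVn : finrank (ZMod p) V = n := Nat.pow_right_injective hp.out.two_le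
    (show p ^ finrank (ZMod p) V = p ^ n by rw [← hVc, Module.natCard_eq_pow_finrank (K := ZMod p), Nat.card_zmod])
  let ae : H → (V ≃+ V) := fun h => MulEquiv.toAdditive (MulAut.conjNormal (h : Nb) : P ≃* P)
  let ρ₀ : H → (V ≃ₗ[ZMod p] V) := fun h => (ae h).toLinearEquiv fun c v => ZMod.map_smul (ae h).toAddMonoidHom c v
  have hρ₀ : ∀ (h : H) (v : V), (((ρ₀ h v).toMul : P) : Nb) = h * (v.toMul : Nb) * (h : Nb)⁻¹ := fun h v =>
    MulAut.conjNormal_apply _ _
  let ρ : H →* (V ≃ₗ[ZMod p] V) :=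
    { toFun := ρ₀
      map_one' := LinearEquiv.ext fun v => Additive.toMul.injective (Subtype.ext (by
        rw [hρ₀, Subgroup.coe_one, inv_one, one_mul, mul_one, PlaneTransitive.linearEquiv_one_apply]))
      map_mul' := fun h k => LinearEquiv.ext fun v => Additive.toMul.injective (Subtype.ext (by
        rw [LinearEquiv.mul_apply, hρ₀, hρ₀, hρ₀, Subgroup.coe_mul]
        group)) }
  have hρ : ∀ (h : H) (v : V), (((ρ h v).toMul : P) : Nb) = h * (v.toMul : Nb) * (h : Nb)⁻¹ := hρ₀
  -- faithful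
  have hinj : Function.Injective ρ := by
    rw [injective_iff_map_eq_one]
    intro h hh
    set C := H ⊓ Subgroup.centralizer (P : Set Nb)
    have hhC : (h : Nb) ∈ C := ⟨h.2, Subgroup.mem_centralizer_iff.2 fun y hy => by
      have e := hρ h (Additive.ofMul ⟨y, hy⟩)
      rw [hh] at e
      have e' : y = (h : Nb) * y * (h : Nb)⁻¹ := e
      conv_lhs => rw [e']
      rw [inv_mul_cancel_right]⟩
    haveI : C.Normal := ⟨fun c hc g => by
      obtain ⟨a, ha, k, hk, rfl⟩ := hdec g
      have h1 : k * c * k⁻¹ ∈ C := ⟨H.mul_mem (H.mul_mem hk hc.1) (H.inv_mem hk), Subgroup.mem_centralizer_iff.2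
        fun y hy => by
          have hy' : k⁻¹ * y * k ∈ P := by simpa using hPn.conj_mem y hy k⁻¹
          have e := Subgroup.mem_centralizer_iff.1 hc.2 _ hy'
          calc y * (k * c * k⁻¹) = k * ((k⁻¹ * y * k) * c) * k⁻¹ := by group
            _ = k * (c * (k⁻¹ * y * k)) * k⁻¹ := by rw [e]
            _ = k * c * k⁻¹ * y := by group⟩
      have e := Subgroup.mem_centralizer_iff.1 h1.2 a ha
      rw [show a * k * c * (a * k)⁻¹ = a * (k * c * k⁻¹) * a⁻¹ by group, e, mul_inv_cancel_right]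
      exact h1⟩
    have hcop : (Nat.card C).Coprime p := by
      have h1 : (Nat.card P).Coprime (Nat.card C) :=
        (hHc ▸ hidx).coprime_dvd_right (Subgroup.card_dvd_of_le inf_le_left)
      rw [hPc] at h1
      exact ((Nat.coprime_pow_left_iff (show 0 < n by omega) _ _).1 h1).symm
    have hC : C = ⊥ := le_bot_iff.1 (hcore ▸ Cores.le_pPrimeCore inferInstance hcop)
    exact Subtype.ext (Subgroup.mem_bot.1 (hC ▸ hhC))
  -- transitivity
  let Sg : Submodule (ZMod p) V → Subgroup Nb := fun W =>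
    { carrier := {y | ∃ hy : y ∈ P, Additive.ofMul (⟨y, hy⟩ : P) ∈ W}
      one_mem' := ⟨P.one_mem, W.zero_mem⟩
      mul_mem' := fun {a b} ⟨ha, ha'⟩ ⟨hb, hb'⟩ => ⟨P.mul_mem ha hb, W.add_mem ha' hb'⟩
      inv_mem' := fun {a} ⟨ha, ha'⟩ => ⟨P.inv_mem ha, W.neg_mem ha'⟩ }
  have hSle : ∀ W, Sg W ≤ P := fun W y hy => hy.1
  have hScard : ∀ W, Nat.card (Sg W) = p ^ finrank (ZMod p) W := fun W => by
    rw [← PlaneTransitive.card_space (V := W) rfl]
    exact Nat.card_congr
      { toFun := fun y => ⟨Additive.ofMul ⟨y.1, y.2.1⟩, y.2.2⟩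
        invFun := fun v => ⟨(v.1.toMul : Nb), v.1.toMul.2, v.2⟩
        left_inv := fun y => rfl
        right_inv := fun v => rfl }
  have hmove : ∀ W W' : Submodule (ZMod p) V, finrank (ZMod p) W = finrank (ZMod p) W' →
      ∃ h : H, ∀ v, v ∈ W → ρ h v ∈ W' := by
    intro W W' heq
    obtain ⟨g, hg⟩ := htrans (Sg W) (Sg W') (hSle W) (hSle W') (by rw [hScard, hScard, heq])
    obtain ⟨a, ha, k, hk, rfl⟩ := hdec g
    refine ⟨⟨k, hk⟩, fun v hv => ?_⟩
    have hvS : ((v.toMul : P) : Nb) ∈ Sg W := ⟨v.toMul.2, hv⟩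
    set y := k * (v.toMul : Nb) * k⁻¹
    have hy : y ∈ P := hPn.conj_mem _ v.toMul.2 k
    have h1 : y ∈ Sg W' := (hg y).2 (by
      rw [show (a * k)⁻¹ * y * (a * k) = k⁻¹ * (a⁻¹ * y * a) * k by group, mul_assoc a⁻¹,
        hcomm y hy a ha, inv_mul_cancel_left, show k⁻¹ * y * k = (v.toMul : Nb) by simp only [y]; group]
      exact hvS)
    obtain ⟨hy', hmem⟩ := h1
    have e : ρ ⟨k, hk⟩ v = Additive.ofMul ⟨y, hy'⟩ := Additive.toMul.injective (Subtype.ext (hρ _ v))
    rw [e]
    exact hmem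
  have S : PlaneTransitive.Setup ρ := by
    refine ⟨hinj, hVn ▸ hn, fun v w hv hw => ?_, fun W W' => ?_⟩
    · obtain ⟨h, hh⟩ := hmove (Submodule.span (ZMod p) {v}) (Submodule.span (ZMod p) {w})
        (by rw [finrank_span_singleton hv, finrank_span_singleton hw])
      obtain ⟨c, hc⟩ := Submodule.mem_span_singleton.1 (hh v (Submodule.mem_span_singleton_self v))
      exact ⟨h, c, hc.symm⟩
    · obtain ⟨h, hh⟩ := hmove W.1 W'.1 (by rw [W.2, W'.2])
      refine ⟨h, Submodule.eq_of_le_of_finrank_eq ?_ (by rw [LinearEquiv.finrank_map_eq, W.2, W'.2])⟩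
      rintro _ ⟨v, hv, rfl⟩
      exact hh v hv
  obtain ⟨hcase, F, hF, hFfin, hFchar, e₀, hFc, hcoord, htwo⟩ := S.classify hVn
  have hn0 : n ≠ 0 := by omega
  haveI : Finite (GaloisField p n) := Nat.finite_of_card_ne_zero
    (by rw [GaloisField.card p n hn0]; exact pow_ne_zero _ hp.out.ne_zero)
  letI := Fintype.ofFinite F
  letI := Fintype.ofFinite (GaloisField p n)
  let r : F ≃+* GaloisField p n := FiniteField.ringEquivOfCardEq (by
    rw [← Nat.card_eq_fintype_card, ← Nat.card_eq_fintype_card, hFc, GaloisField.card p n hn0])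
  let E : V ≃+ GaloisField p n := e₀.trans r.toAddEquiv
  have hE : ∀ v, E v = r (e₀ v) := fun v => rfl
  -- the action on the cosets of `H`
  let β₀ : GaloisField p n → Nb ⧸ H := fun t => (((E.symm t).toMul : P) : Nb)
  have hβ : Function.Bijective β₀ := by
    refine ⟨fun s t hst => ?_, fun q => ?_⟩
    · have h1 := QuotientGroup.eq.1 hst
      have h2 := hPH _ (P.mul_mem (P.inv_mem (E.symm s).toMul.2) (E.symm t).toMul.2) h1
      refine E.symm.injective (Additive.toMul.injective (Subtype.ext ?_))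
      exact inv_mul_eq_one.1 h2
    · obtain ⟨g, rfl⟩ := QuotientGroup.mk_surjective q
      obtain ⟨a, ha, k, hk, rfl⟩ := hdec g
      refine ⟨E (Additive.ofMul ⟨a, ha⟩), ?_⟩
      simp only [β₀, AddEquiv.symm_apply_apply]
      exact QuotientGroup.eq.2 (by simpa using hk)
  let β : GaloisField p n ≃ Nb ⧸ H := Equiv.ofBijective β₀ hβ
  let f : Nb →* Equiv.Perm (GaloisField p n) :=
    β.symm.permCongrHom.toMonoidHom.comp (MulAction.toPermHom Nb (Nb ⧸ H))
  have hf : ∀ g t s, g • β t = β s → f g t = s := fun g t s h => by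
    show β.symm (g • β.symm.symm t) = s
    rw [Equiv.symm_symm, h, Equiv.symm_apply_apply]
  have hfP : ∀ a (ha : a ∈ P) t, f a t = t + E (Additive.ofMul ⟨a, ha⟩) := by
    intro a ha t
    refine hf a t _ ?_
    show a • β₀ t = β₀ _
    simp only [β₀, map_add, AddEquiv.symm_apply_apply]
    show (((a * ((E.symm t).toMul : P)) : Nb) : Nb ⧸ H) = ((((E.symm t).toMul : P) : Nb) * a : Nb)
    rw [hcomm a ha _ (E.symm t).toMul.2]
  have hfH : ∀ (h : H) t, f h t = E (ρ h (E.symm t)) := by
    intro h t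
    refine hf h t _ ?_
    show (h : Nb) • β₀ t = β₀ _
    simp only [β₀, AddEquiv.symm_apply_apply, hρ]
    show (((h : Nb) * ((E.symm t).toMul : P) : Nb) : Nb ⧸ H) = _
    rw [QuotientGroup.mk_mul_of_mem _ (H.inv_mem h.2)]
  have hfinj : Function.Injective f := by
    rw [injective_iff_map_eq_one]
    intro g hg
    have hmem : g ∈ H.normalCore := by
      rw [Subgroup.normalCore_eq_ker]
      exact β.symm.permCongrHom.injective (by rw [map_one]; exact hg)
    have hcop : (Nat.card H.normalCore).Coprime p := by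
      have h1 : (Nat.card P).Coprime (Nat.card H.normalCore) :=
        (hHc ▸ hidx).coprime_dvd_right (Subgroup.card_dvd_of_le H.normalCore_le)
      rw [hPc] at h1
      exact ((Nat.coprime_pow_left_iff (show 0 < n by omega) _ _).1 h1).symm
    have hC : H.normalCore = ⊥ := le_bot_iff.1 (hcore ▸ Cores.le_pPrimeCore H.normalCore_normal hcop)
    exact Subgroup.mem_bot.1 (hC ▸ hmem)
  have hmem : ∀ g, f g ∈ Cfsg.semiaffineGroup (GaloisField p n) := by
    intro g
    obtain ⟨a, ha, k, hk, rfl⟩ := hdec g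
    rw [map_mul]
    refine mul_mem ⟨1, E (Additive.ofMul ⟨a, ha⟩), RingEquiv.refl _, fun t => by
      rw [hfP a ha, Units.val_one, one_mul, RingEquiv.refl_apply]⟩ ?_
    obtain ⟨c, φ, hcφ⟩ := hcoord ⟨k, hk⟩
    refine ⟨Units.map (r : F →* GaloisField p n) c, 0, (r.symm.trans φ).trans r, fun t => ?_⟩
    rw [show f k t = f ((⟨k, hk⟩ : H) : Nb) t from rfl, hfH, hE, hcφ, map_mul, add_zero,
      show e₀ (E.symm t) = r.symm t from e₀.apply_symm_apply _]
    rfl
  let f' : Nb →* Cfsg.semiaffineGroup (GaloisField p n) := f.codRestrict _ hmem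
  have hf' : Function.Injective f' := fun x y h => hfinj (congrArg Subtype.val h)
  have hNc : Nat.card Nb = p ^ n * Nat.card H := by rw [← hPc, hH.card_mul]
  obtain ⟨hsa, haf⟩ := card_semiaffine_le (p := p) hn0
  have hform := PlaneTransitive.card_plane_mul (p := p) (V := V) hVn (by omega)
  haveI : Finite (Equiv.Perm (GaloisField p n)) := Finite.of_injective _ DFunLike.coe_injective
  rcases hcase with rfl | ⟨rfl, rfl⟩
  · refine Or.inl ⟨rfl, ⟨f', hf'⟩, ?_⟩
    rintro rfl
    obtain ⟨hd1, hd2, hlin⟩ := htwo rfl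
    norm_num at hform hd2 hsa haf
    have hP7 : Nat.card (PlaneTransitive.Plane 2 V) = 7 := by omega
    rw [hP7] at hd1
    have hH' : Nat.card H = 7 ∨ Nat.card H = 21 := by
      have h1 : Nat.card H ≤ 21 := Nat.le_of_dvd (by norm_num) hd2
      have h0 : 0 < Nat.card H := Nat.card_pos
      obtain ⟨k, hk⟩ := hd1
      rw [hk] at hd2 h1 ⊢
      have hk3 : k ≤ 3 := by omega
      interval_cases k <;> norm_num at * <;> omega
    rcases hH' with hH' | hH'
    · refine Or.inr ?_
      have hlin' := hlin (by rw [hH']; norm_num)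
      have hmem' : ∀ g, f g ∈ Cfsg.affineGroup (GaloisField 2 3) := by
        intro g
        obtain ⟨a, ha, k, hk, rfl⟩ := hdec g
        rw [map_mul]
        refine mul_mem ⟨1, E (Additive.ofMul ⟨a, ha⟩), fun t => by rw [hfP a ha, Units.val_one, one_mul]⟩ ?_
        obtain ⟨c, hc⟩ := hlin' ⟨k, hk⟩
        refine ⟨Units.map (r : F →* GaloisField 2 3) c, 0, fun t => ?_⟩
        rw [show f k t = f ((⟨k, hk⟩ : H) : Nb) t from rfl, hfH, hE, hc, map_mul, add_zero, ← hE,
          AddEquiv.apply_symm_apply]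
        rfl
      let f'' : Nb →* Cfsg.affineGroup (GaloisField 2 3) := f.codRestrict _ hmem'
      have hf'' : Function.Injective f'' := fun x y h => hfinj (congrArg Subtype.val h)
      refine ⟨MulEquiv.ofBijective f'' ((Nat.bijective_iff_injective_and_card _).2 ⟨hf'', le_antisymm
        (Nat.card_le_card_of_injective f'' hf'') ?_⟩)⟩
      rw [hNc, hH']
      norm_num
      exact haf
    · refine Or.inl ⟨MulEquiv.ofBijective f' ((Nat.bijective_iff_injective_and_card _).2 ⟨hf', le_antisymm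
        (Nat.card_le_card_of_injective f' hf') ?_⟩)⟩
      rw [hNc, hH']
      norm_num
      exact hsa
  · refine Or.inr ⟨rfl, rfl, ?_⟩
    obtain ⟨hd1, hd2, -⟩ := htwo rfl
    norm_num at hform hd2 hsa
    have hP : Nat.card (PlaneTransitive.Plane 2 V) = 155 := by omega
    rw [hP] at hd1
    have hH' : Nat.card H = 155 := Nat.dvd_antisymm hd2 hd1
    refine ⟨MulEquiv.ofBijective f' ((Nat.bijective_iff_injective_and_card _).2 ⟨hf', le_antisymm
      (Nat.card_le_card_of_injective f' hf') ?_⟩)⟩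
    rw [hNc, hH']
    norm_num
    exact hsa

end Cfsg.Agent.ConjPSub
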